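import Groth.Agent.Lib.Cyc.AffFib.Fibre
import Groth.Agent.Lib.Cyc.FP.Rat
import Groth.Agent.Lib.Cyc.FieldDim
import Mathlib.RingTheory.TensorProduct.MvPolynomial
import Mathlib.RingTheory.PolynomialAlgebra
import Mathlib.RingTheory.KrullDimension.NonZeroDivisors

/-!
# Affine space kills all non-generic points
-/

set_option autoImplicit false
set_option linter.style.haveILetI false
universe u

open CategoryTheory CategoryTheory.Limits AlgebraicGeometry IsLocalRing

namespace Groth.Agent.Lib.Cyc.AffFib.Affine

open Groth.Agent.Lib Groth.Agent.Lib.Cyc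

variable {X : Scheme.{u}}

theorem killedAt_of_ratEquivZero [CompactSpace X] {δ : X → ℤ} {k : ℤ} {x : X} (hx : δ x = k)
    {α : AlgebraicCycle X ℤ} (hα : ∀ z, α z = Set.indicator {x} 1 z) (h : Cyc.RatEquivZero δ k α) :
    Kill.KilledAt δ x := by
  obtain ⟨ι, ξ, g, hξ, hg, hlf, hsum⟩ := h
  choose U hU hxU hfin using hlf
  obtain ⟨t, ht⟩ := isCompact_univ.elim_finite_subcover U hU fun x _ => Set.mem_iUnion.2 ⟨x, hxU x⟩
  haveI : Finite ι := Set.finite_univ_iff.1 <| (t.finite_toSet.biUnion fun x _ => hfin x).subset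
    fun n _ => by
      obtain ⟨x, hx, hxn⟩ := Set.mem_iUnion₂.1 (ht (Set.mem_univ (ξ n)))
      exact Set.mem_biUnion hx ⟨ξ n, subset_closure rfl, hxn⟩
  haveI : Fintype ι := Fintype.ofFinite ι
  exact ⟨ι, ‹_›, ξ, g, fun n => ⟨by rw [hξ n, hx], hg n⟩,
    fun z => by rw [← hα, hsum, finsum_eq_sum_of_fintype]⟩

theorem ratEquivZero_of_killedAt [IsLocallyNoetherian X] [CompactSpace X] {δ : X → ℤ}
    (hδ : Cyc.IsDimFun X δ) {k : ℤ} {α : AlgebraicCycle X ℤ} (hα : α ∈ Cyc.Zk X δ k)
    (h : ∀ η, α η ≠ 0 → Kill.KilledAt δ η) : Cyc.RatEquivZero δ k α := by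
  classical
  have hfin : (Function.support ⇑α).Finite := by
    simpa using (α.locallyFiniteSupport).finite_inter_support_of_isCompact isCompact_univ
  let S : Type u := {η : X // α η ≠ 0}
  haveI : Fintype S := hfin.fintype
  choose ι hι ξ g hp hs using fun η : S => h η.1 η.2
  refine ⟨(η : S) × ι η, fun p => ξ p.1 p.2, fun p => g p.1 p.2 ^ α p.1.1, fun p => ?_,
    fun p => zpow_ne_zero _ (hp p.1 p.2).2, fun x => ⟨Set.univ, isOpen_univ, trivial, Set.toFinite _⟩,
    fun z => ?_⟩
  · rw [(hp p.1 p.2).1]
    have : δ p.1.1 = k := by by_contra hne; exact p.1.2 (hα _ hne)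
    omega
  · rw [finsum_eq_sum_of_fintype, Fintype.sum_sigma]
    refine Eq.trans ?_ (Finset.sum_congr rfl fun η _ => ?_)
      (b := ∑ η : S, α η.1 * Set.indicator {η.1} 1 z)
    · by_cases hz : α z = 0
      · rw [hz]
        refine (Finset.sum_eq_zero fun η _ => ?_).symm
        rw [Set.indicator_of_notMem (s := ({η.1} : Set X))
          fun e => η.2 (by rw [← Set.mem_singleton_iff.1 e]; exact hz), mul_zero]
      · rw [Finset.sum_eq_single (⟨z, hz⟩ : S), Set.indicator_of_mem (Set.mem_singleton z),
          Pi.one_apply, mul_one]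
        · intro η _ hne
          rw [Set.indicator_of_notMem (s := ({η.1} : Set X))
            fun e => hne (Subtype.ext (Set.mem_singleton_iff.1 e).symm), mul_zero]
        · exact fun hn => absurd (Finset.mem_univ _) hn
    · rw [← hs η z, Finset.mul_sum]
      exact Finset.sum_congr rfl fun n _ => (congrFun (C1.divFun_zpow hδ _ _ (hp η n).2 (α η.1)) z).symm

variable (R : Type u) [CommRing R]

theorem killsAll_polynomial_field (L : Type u) [Field L] :
    Kill.KillsAll (Spec (CommRingCat.of (Polynomial L))) := by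
  haveI : IsPrincipalIdealRing Γ(Spec (CommRingCat.of (Polynomial L)), ⊤) :=
    IsPrincipalIdealRing.of_surjective
      (Scheme.ΓSpecIso (CommRingCat.of (Polynomial L))).inv.hom
      ((ConcreteCategory.bijective_of_isIso (Scheme.ΓSpecIso (CommRingCat.of (Polynomial L))).inv).2)
  exact Kill.killsAll_pid

theorem trdegAt_generic_polynomial (L : Type u) [Field L] :
    Residue.trdegAt (Spec.map (CommRingCat.ofHom (Polynomial.C : L →+* Polynomial L)))
      (genericPoint (Spec (CommRingCat.of (Polynomial L)))) = 1 := by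
  set q := Spec.map (CommRingCat.ofHom (Polynomial.C : L →+* Polynomial L))
  haveI : LocallyOfFiniteType q := by
    rw [HasRingHomProperty.Spec_iff (P := @LocallyOfFiniteType)]
    exact (RingHom.finiteType_algebraMap (A := L) (B := Polynomial L)).2 inferInstance
  rw [FieldDim.trdegAt_eq_fdelta]
  have h := FieldDim.topologicalKrullDim_closure q (genericPoint (Spec (CommRingCat.of (Polynomial L))))
  have h' : topologicalKrullDim (closure ({genericPoint (Spec (CommRingCat.of (Polynomial L)))} :
      Set (Spec (CommRingCat.of (Polynomial L))))) = 1 := by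
    rw [genericPoint_closure, IsHomeomorph.topologicalKrullDim_eq _ (Homeomorph.Set.univ _).isHomeomorph]
    show topologicalKrullDim (PrimeSpectrum (Polynomial L)) = 1
    rw [PrimeSpectrum.topologicalKrullDim_eq_ringKrullDim]
    refine le_antisymm (Ring.krullDimLE_iff.1 inferInstance) ?_
    have := ringKrullDim_succ_le_ringKrullDim_polynomial (R := L)
    rwa [ringKrullDim_eq_zero_of_field, zero_add] at this
  rw [h'] at h
  exact_mod_cast h.symm

variable {R} [IsNoetherianRing R] [IsDomain R]

/-- One more variable. -/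
theorem killsAll_polynomial (L : Type u) [Field L] [Algebra L R] [Algebra.FiniteType L R]
    (hR : Kill.KillsAll (Spec (CommRingCat.of R))) :
    Kill.KillsAll (Spec (CommRingCat.of (Polynomial R))) := by
  classical
  let Y := Spec (CommRingCat.of R)
  let X := Spec (CommRingCat.of (Polynomial R))
  let π : X ⟶ Y := Spec.map (CommRingCat.ofHom (Polynomial.C : R →+* Polynomial R))
  let sY : Y ⟶ Spec (CommRingCat.of L) := Spec.map (CommRingCat.ofHom (algebraMap L R))
  haveI : LocallyOfFiniteType sY := by
    rw [HasRingHomProperty.Spec_iff (P := @LocallyOfFiniteType)]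
    exact (RingHom.finiteType_algebraMap (A := L) (B := R)).2 inferInstance
  haveI : LocallyOfFiniteType π := by
    rw [HasRingHomProperty.Spec_iff (P := @LocallyOfFiniteType)]
    exact (RingHom.finiteType_algebraMap (A := R) (B := Polynomial R)).2 inferInstance
  haveI : Flat π := by
    rw [HasRingHomProperty.Spec_iff (P := @Flat)]
    exact (RingHom.flat_algebraMap_iff (R := R) (S := Polynomial R)).2 inferInstance
  let δY : Y → ℤ := FieldDim.fdelta sY
  let δX : X → ℤ := FieldDim.fdelta (π ≫ sY)
  have hY : Cyc.IsDimFun Y δY := FieldDim.isDimFun_fdelta sY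
  have hX : Cyc.IsDimFun X δX := FieldDim.isDimFun_fdelta (π ≫ sY)
  have hadd : ∀ x, ((δX x).toNat : Cardinal.{u}) =
      ((δY (π x)).toNat : Cardinal.{u}) + Residue.trdegAt π x := fun x => by
    rw [← FieldDim.trdegAt_eq_fdelta, ← FieldDim.trdegAt_eq_fdelta, Residue.trdegAt_comp]
  have hD : Descent.Data π δX δY 1 := by
    refine ⟨fun x => ?_, fun η => ?_⟩
    · have h : ((δY (π x)).toNat : Cardinal.{u}) ≤ ((δX x).toNat : Cardinal.{u}) :=
        (hadd x).symm ▸ self_le_add_right _ _
      have := FieldDim.fdelta_nonneg sY (π x)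
      have := FieldDim.fdelta_nonneg (π ≫ sY) x
      have := Nat.cast_le.1 h
      change FieldDim.fdelta sY (π x) ≤ FieldDim.fdelta (π ≫ sY) x
      simp only [δX, δY] at this
      omega
    · let φ := Spec.preimage (Y.fromSpecResidueField η)
      letI : Algebra R (Y.residueField η) := φ.hom.toAlgebra
      have hι : Spec.map (CommRingCat.ofHom (algebraMap R (Y.residueField η))) =
          Y.fromSpecResidueField η := Spec.map_preimage _
      letI := Polynomial.algebra R (Y.residueField η)
      have H := isPullback_SpecMap_of_isPushout _ _ _ _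
        (CommRingCat.isPushout_of_isPushout R (Y.residueField η) (Polynomial R)
          (Polynomial (Y.residueField η)))
      haveI : IsPreimmersion (Spec.map (CommRingCat.ofHom (algebraMap R (Y.residueField η)))) :=
        hι ▸ inferInstance
      obtain ⟨ζ, hζ, hfζ, hlen, htr, hall⟩ := Fibre.exists_gen (f := π) H.flip
        (killsAll_polynomial_field (Y.residueField η)) hX η (by
          rw [hι]
          exact Scheme.fromSpecResidueField_apply _ _)
      refine ⟨ζ, hfζ, ?_, hlen, hall⟩
      have h1 := hadd ζ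
      rw [htr, show Residue.trdegAt _ _ = 1 from trdegAt_generic_polynomial (Y.residueField η), hfζ,
        ← Nat.cast_one, ← Nat.cast_add] at h1
      have h2 := Nat.cast_injective h1
      have := FieldDim.fdelta_nonneg sY η
      have := FieldDim.fdelta_nonneg (π ≫ sY) ζ
      simp only [δX, δY] at h2 ⊢
      omega
  intro δ hδ x hx
  haveI : IrreducibleSpace X := inferInstance
  obtain ⟨c, rfl⟩ := Kill.exists_eq_add hX hδ
  refine Kill.KilledAt.add_const ?_ c
  let β : AlgebraicCycle X ℤ := ⟨Set.indicator {x} 1, fun _ _ => trivial, fun z _ =>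
    ⟨Set.univ, Filter.univ_mem, (Set.finite_singleton x).subset fun a ha => by
      by_contra hn
      exact ha.2 (Set.indicator_of_notMem hn _)⟩⟩
  have hβ : β ∈ Cyc.Zk X δX ((δX x - 1) + 1) := fun z hz =>
    Set.indicator_of_notMem (fun e => hz (by rw [Set.mem_singleton_iff.1 e]; ring)) _
  obtain ⟨α, β', hα, hβ', heq⟩ := Descent.exists_pullback π hX hY hD (δX x - 1) hβ
  refine killedAt_of_ratEquivZero (k := δX x - 1 + 1) (by ring) (α := β) (fun z => rfl) ?_
  have hα0 : Cyc.RatEquivZero δY (δX x - 1) α := ratEquivZero_of_killedAt hY hα fun η hη => by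
    refine hR δY hY η fun hmax => ?_
    have h1 : δY η = δX x - 1 := by by_contra hne; exact hη (hα η hne)
    have h2 : η = genericPoint Y := (hmax _ (genericPoint_specializes η)).symm
    have h3 : δX x < δX (genericPoint X) := DimFun.lt_of_specializes hX (genericPoint_specializes x)
      fun e => hx (e ▸ DimFun.isMaxPt_genericPoint)
    have h4 := Descent.eq_gen hX hD (genericPoint X)
    have h5 := DimFun.le_of_specializes hY (genericPoint_specializes (π (genericPoint X)))
    rw [h2] at h1
    omega
  have hS : FP.Main.Shift π δX δY 1 := fun z hz => by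
    obtain ⟨ζ, hfζ, hδζ, -, hall⟩ := hD.gen (π z)
    rw [← hz ζ hfζ (hall z rfl).1]
    rw [hδζ, hfζ]
  have h0 := FP.Rat.ratEquiv_pull π hX hY hS (β := 0)
    (show Cyc.RatEquiv δY (δX x - 1) α 0 by rwa [Cyc.RatEquiv, sub_zero]) β' 0 hβ'
    (funext fun z => by simp [FibLen.pullFun_apply])
  rw [Cyc.RatEquiv, sub_zero] at h0
  have := Ord.ratEquivZero_add heq h0
  rwa [sub_add_cancel β β'] at this

/-- `𝔸ⁿ` over a field kills every non-generic point. -/
theorem killsAll_mvPolynomial (L : Type u) [Field L] (n : ℕ) :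
    Kill.KillsAll (Spec (CommRingCat.of (MvPolynomial (Fin n) L))) := by
  induction n with
  | zero =>
    intro δ hδ x hx
    refine absurd (fun y hy => ?_) hx
    haveI : Subsingleton (PrimeSpectrum (MvPolynomial (Fin 0) L)) :=
      (PrimeSpectrum.comapEquiv (MvPolynomial.isEmptyAlgEquiv L (Fin 0)).toRingEquiv).injective.subsingleton
    exact @Subsingleton.elim (PrimeSpectrum (MvPolynomial (Fin 0) L)) _ y x
  | succ n ih =>
    haveI : IsLocallyNoetherian (Scheme.Spec.obj (Opposite.op (CommRingCat.of (Polynomial (MvPolynomial (Fin n) L))))) :=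
      inferInstanceAs (IsLocallyNoetherian (Spec (CommRingCat.of (Polynomial (MvPolynomial (Fin n) L)))))
    haveI : IsLocallyNoetherian (Scheme.Spec.obj (Opposite.op (CommRingCat.of (MvPolynomial (Fin (n + 1)) L)))) :=
      inferInstanceAs (IsLocallyNoetherian (Spec (CommRingCat.of (MvPolynomial (Fin (n + 1)) L))))
    exact Kill.KillsAll.of_iso (Scheme.Spec.mapIso
      ((MvPolynomial.finSuccEquiv L n).toRingEquiv.toCommRingCatIso.op)) (killsAll_polynomial L ih)

end Groth.Agent.Lib.Cyc.AffFib.Affine
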