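import Groth.Agent.Lib.Cyc.AffFib.Descent

/-!
# Descending cycles of bounded height along affine fibres
-/

set_option autoImplicit false
universe u

open CategoryTheory AlgebraicGeometry

namespace Groth.Agent.Lib.Cyc.AffFib.BoundDescent

open Groth.Agent.Lib.Cyc Descent

variable {X Y : Scheme.{u}}

/-- Irreducible generically reduced fibres of relative weight `r`, killing everything below. -/
def Gen (f : X ⟶ Y) (δX : X → ℤ) (δY : Y → ℤ) (r : ℤ) : Prop :=
  ∀ η : Y, ∃ ζ : X, f ζ = η ∧ δX ζ = δY η + r ∧ FibLen.fibLen f ζ = 1 ∧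
    ∀ x : X, f x = η → ζ ⤳ x ∧ (x ≠ ζ → KilledInFibre f δX x)

theorem eq_gen {f : X ⟶ Y} {δX : X → ℤ} {δY : Y → ℤ} {r : ℤ} (hX : Cyc.IsDimFun X δX)
    (H : Gen f δX δY r) (x : X) : δX x ≤ δY (f x) + r := by
  obtain ⟨ζ, -, hζ, -, hall⟩ := H (f x)
  exact (DimFun.le_of_specializes hX (hall x rfl).1).trans hζ.le

/-- Every cycle is rationally equivalent to a pullback. -/
theorem exists_pullback_of_bound [IsLocallyNoetherian X] (f : X ⟶ Y) [QuasiCompact f] {δX : X → ℤ}
    {δY : Y → ℤ} {r : ℤ} (hX : Cyc.IsDimFun X δX) (hY : Cyc.IsDimFun Y δY) (Hgen : Gen f δX δY r)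
    (k : ℤ) {N : ℕ} {β : AlgebraicCycle X ℤ} (hβ : β ∈ Cyc.Zk X δX (k + r))
    (hN : ∀ x, β x ≠ 0 → δY (f x) ≤ k + N) :
    ∃ (α : AlgebraicCycle Y ℤ) (β' : AlgebraicCycle X ℤ), α ∈ Cyc.Zk Y δY k ∧
      ⇑β' = Cyc.pullFun f δX δY r ⇑α ∧ Cyc.RatEquiv δX (k + r) β β' := by
  classical
  suffices h : ∀ (m : ℕ) (β : AlgebraicCycle X ℤ), β ∈ Cyc.Zk X δX (k + r) →
      (∀ x, β x ≠ 0 → δY (f x) ≤ k + m) →
      ∃ (α : AlgebraicCycle Y ℤ) (β' : AlgebraicCycle X ℤ), α ∈ Cyc.Zk Y δY k ∧
        ⇑β' = Cyc.pullFun f δX δY r ⇑α ∧ Cyc.RatEquiv δX (k + r) β β' by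
    exact h N β hβ hN
  intro m
  induction m with
  | zero =>
    intro β hβ hm
    have Hc := Hgen
    choose z hz hδz hlen hall using Hc
    let a : Y → ℤ := fun η => if δY η = k then β (z η) else 0
    have hsupp : ∀ x, β x ≠ 0 → x = z (f x) ∧ δY (f x) = k := fun x hx => by
      have h1 : δX x = k + r := by by_contra hne; exact hx (hβ x hne)
      have h2 := hm x hx
      have h3 := eq_gen hX Hgen x
      have h4 : δY (f x) = k := by omega
      refine ⟨?_, h4⟩
      exact (DimFun.eq_of_specializes_of_le hX (hall (f x) x rfl).1 (by rw [hδz]; omega)).symm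
    have ha : LocallyFiniteSupport a := fun η => by
      obtain ⟨_, ⟨V, hV, rfl⟩, hηV, -⟩ :=
        Y.isBasis_affineOpens.exists_subset_of_mem_open (Set.mem_univ η) isOpen_univ
      refine ⟨V, V.2.mem_nhds hηV, (((β.locallyFiniteSupport).finite_inter_support_of_isCompact
        (QuasiCompact.isCompact_preimage (f := f) (V : Set Y) V.2 hV.isCompact)).image ⇑f).subset ?_⟩
      rintro y ⟨hyV, hy⟩
      simp only [Function.mem_support, a, ne_eq, ite_eq_right_iff, Classical.not_imp] at hy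
      exact ⟨z y, ⟨by show f (z y) ∈ (V : Set Y); rw [hz]; exact hyV, hy.2⟩, hz y⟩
    refine ⟨⟨a, fun _ _ => trivial, fun y _ => ha y⟩, β, fun y hy => if_neg hy, ?_,
      Ord.ratEquiv_refl δX _ β⟩
    funext x
    rw [FibLen.pullFun_apply]
    by_cases hx : δX x = δY (f x) + r
    · have e : x = z (f x) :=
        (DimFun.eq_of_specializes_of_le hX (hall (f x) x rfl).1 (by rw [hδz]; omega)).symm
      rw [if_pos hx, show FibLen.fibLen f x = 1 by rw [e]; exact hlen _, ENat.toNat_one, Nat.cast_one,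
        mul_one]
      show β x = if δY (f x) = k then β (z (f x)) else 0
      split_ifs with hk
      · rw [← e]
      · exact hβ x (by omega)
    · rw [if_neg hx]
      by_contra hne
      obtain ⟨e, hk⟩ := hsupp x hne
      exact hx (by rw [e, hδz, hz])
  | succ m ih =>
    intro β hβ hm
    let S : Type u := {x : X // β x ≠ 0 ∧ δY (f x) = k + m + 1}
    have hS : ∀ x : S, KilledInFibre f δX x.1 := fun x => by
      obtain ⟨ζ, -, hζ, -, hall⟩ := Hgen (f x.1)
      refine (hall x.1 rfl).2 fun e => ?_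
      have h1 : δX x.1 = k + r := by by_contra hne; exact x.2.1 (hβ x.1 hne)
      rw [e] at h1
      have := x.2.2
      omega
    choose ι hι ξ g hp hsum using hS
    have hξ : ∀ p : (x : S) × ι x, δX (ξ p.1 p.2) = k + r + 1 := fun p => by
      rw [(hp p.1 p.2).2.1]
      have : δX p.1.1 = k + r := by by_contra hne; exact p.1.2.1 (hβ _ hne)
      omega
    let G : ∀ p : (x : S) × ι x, X.residueField (ξ p.1 p.2) := fun p => g p.1 p.2 ^ β p.1.1
    have hG : ∀ p, G p ≠ 0 := fun p => zpow_ne_zero _ (hp p.1 p.2).2.2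
    have hlf : ∀ y : X, ∃ U : Set X, IsOpen U ∧ y ∈ U ∧
        {p : (x : S) × ι x | (closure {ξ p.1 p.2} ∩ U).Nonempty}.Finite := fun y => by
      obtain ⟨_, ⟨V, hV, rfl⟩, hyV, -⟩ :=
        Y.isBasis_affineOpens.exists_subset_of_mem_open (Set.mem_univ (f y)) isOpen_univ
      have hfin : {x : S | f x.1 ∈ V}.Finite :=
        (((β.locallyFiniteSupport).finite_inter_support_of_isCompact
          (QuasiCompact.isCompact_preimage (f := f) (V : Set Y) V.2 hV.isCompact)).preimage
            (f := Subtype.val) Subtype.val_injective.injOn).subset fun x hx => ⟨hx, x.2.1⟩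
      refine ⟨⇑f ⁻¹' V, V.2.preimage f.continuous, hyV,
        ((hfin.toFinset.sigma fun x => (Finset.univ : Finset (ι x))).finite_toSet).subset ?_⟩
      rintro p ⟨w, hw, hwV⟩
      refine Finset.mem_sigma.2 ⟨hfin.mem_toFinset.2 ?_, Finset.mem_univ _⟩
      show f p.1.1 ∈ V
      rw [← (hp p.1 p.2).1]
      exact ((specializes_iff_mem_closure.2 hw).map f.continuous).mem_open V.2 hwV
    let d : X → ℤ := fun z => ∑ᶠ p : (x : S) × ι x, Cyc.divFun δX (ξ p.1 p.2) (G p) z
    have hd : LocallyFiniteSupport d := fun z => by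
      obtain ⟨W, hW, hzW, hfin⟩ := hlf z
      choose V hV hxV hVfin using fun p : (x : S) × ι x =>
        Ord.exists_open_finite_divFun hX (ξ p.1 p.2) (G p) z
      refine ⟨W ∩ ⋂ p ∈ {p : (x : S) × ι x | (closure {ξ p.1 p.2} ∩ W).Nonempty}, V p,
        (hW.inter (hfin.isOpen_biInter fun p _ => hV p)).mem_nhds
          ⟨hzW, Set.mem_iInter₂.2 fun p _ => hxV p⟩, (hfin.biUnion fun p _ => hVfin p).subset ?_⟩
      rintro w ⟨⟨hwW, hwV⟩, hw⟩
      obtain ⟨p, -, hp'⟩ := exists_ne_zero_of_finsum_mem_ne_zero (s := Set.univ)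
        (f := fun p : (x : S) × ι x => Cyc.divFun δX (ξ p.1 p.2) (G p) w)
        (by rw [finsum_mem_univ]; exact hw)
      have hmem : (closure {ξ p.1 p.2} ∩ W).Nonempty := ⟨w, specializes_iff_mem_closure.1 (by
        by_contra hs
        exact hp' (Ord.divFun_eq_zero_of_not_specializes δX _ _ _ hs)), hwW⟩
      exact Set.mem_biUnion hmem ⟨Set.mem_iInter₂.1 hwV p hmem, hp'⟩
    let ρ : AlgebraicCycle X ℤ := ⟨d, fun _ _ => trivial, fun z _ => hd z⟩
    have hρk : ρ ∈ Cyc.Zk X δX (k + r) := fun z hz => finsum_eq_zero_of_forall_eq_zero fun p =>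
      dif_neg fun hc => hz (by have := hc.2; have := hξ p; omega)
    -- the value above level `k + m`
    have hval : ∀ z, k + m < δY (f z) → ρ z = β z := fun z hz => by
      have hne : ∀ p : (x : S) × ι x, Cyc.divFun δX (ξ p.1 p.2) (G p) z ≠ 0 → f z = f p.1.1 := fun p hne => by
        have hsp : f p.1.1 ⤳ f z := by
          rw [← (hp p.1 p.2).1]
          exact Specializes.map (by
            by_contra hs
            exact hne (Ord.divFun_eq_zero_of_not_specializes δX _ _ _ hs)) f.continuous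
        exact (DimFun.eq_of_specializes_of_le hY hsp (by have := p.1.2.2; omega)).symm
      have hterm : ∀ p : (x : S) × ι x, Cyc.divFun δX (ξ p.1 p.2) (G p) z =
          β p.1.1 * Cyc.divFun δX (ξ p.1 p.2) (g p.1 p.2) z := fun p =>
        C1.divFun_zpow hX _ _ (hp p.1 p.2).2.2 (β p.1.1) ▸ rfl
      have hfibfin : {x : S | f x.1 = f z}.Finite :=
        ((Push.finite_fiber_support f β (f z)).preimage (f := Subtype.val) Subtype.val_injective.injOn).subset
          fun x hx => ⟨hx, x.2.1⟩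
      show ∑ᶠ p : (x : S) × ι x, Cyc.divFun δX (ξ p.1 p.2) (G p) z = _
      rw [finsum_eq_sum_of_support_subset (s := hfibfin.toFinset.sigma fun x => Finset.univ) _
        fun p hp' => Finset.mem_sigma.2 ⟨hfibfin.mem_toFinset.2 (hne p hp').symm, Finset.mem_univ _⟩,
        Finset.sum_sigma]
      refine (Finset.sum_congr rfl fun x hx => ?_).trans ?_ (b := ∑ x ∈ hfibfin.toFinset,
        β x.1 * Set.indicator {x.1} 1 z)
      · refine (Finset.sum_congr rfl fun n _ => hterm ⟨x, n⟩).trans ?_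
        rw [← hsum x z (hfibfin.mem_toFinset.1 hx).symm, Finset.mul_sum]
      by_cases hβz : β z = 0
      · rw [hβz]
        refine Finset.sum_eq_zero fun x _ => ?_
        rw [Set.indicator_of_notMem fun e => x.2.1 (by rw [← Set.mem_singleton_iff.1 e]; exact hβz),
          mul_zero]
      · have hzS : δY (f z) = k + m + 1 := by
          have := hm z hβz
          push_cast at this
          omega
        rw [Finset.sum_eq_single ⟨z, hβz, hzS⟩]
        · rw [Set.indicator_of_mem (Set.mem_singleton z), Pi.one_apply, mul_one]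
        · intro x _ hxne
          rw [Set.indicator_of_notMem fun e => hxne (Subtype.ext (Set.mem_singleton_iff.1 e).symm),
            mul_zero]
        · exact fun h => absurd (hfibfin.mem_toFinset.2 rfl) h
    have hρ0 : Cyc.RatEquivZero δX (k + r) ρ :=
      ⟨(x : S) × ι x, fun p => ξ p.1 p.2, G, hξ, hG, hlf, fun _ => rfl⟩
    obtain ⟨α, β', hα, hβ', heq⟩ := ih (β - ρ)
      (fun z hz => by show β z - ρ z = 0; rw [hβ z hz, hρk z hz, sub_zero])
      (fun z hz => by
        by_contra hlt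
        exact hz (by show β z - ρ z = 0; rw [hval z (by omega), sub_self]))
    refine ⟨α, β', hα, hβ', ?_⟩
    have := Ord.ratEquivZero_add hρ0 heq
    rwa [show ρ + (β - ρ - β') = β - β' by abel] at this

end Groth.Agent.Lib.Cyc.AffFib.BoundDescent
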