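import Groth.Agent.Lib.Cyc.AffFib.Kill
import Groth.Agent.Lib.Cyc.LimCyc
import Groth.Agent.H52.FBase.BCReducedStalk

/-!
# Fibre data from a cartesian square over a point
-/

set_option autoImplicit false
set_option linter.style.haveILetI false
universe u

open CategoryTheory CategoryTheory.Limits AlgebraicGeometry IsLocalRing

namespace Groth.Agent.Lib.Cyc.AffFib.Fibre

open Groth.Agent.Lib Groth.Agent.Lib.Cyc

variable {X Y F : Scheme.{u}} {L : Type u} [Field L] {f : X ⟶ Y} {e : F ⟶ X} {q : F ⟶ Spec (CommRingCat.of L)}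
  {ι : Spec (CommRingCat.of L) ⟶ Y} [IsPreimmersion ι]

theorem isPreimmersion (H : IsPullback e q f ι) : IsPreimmersion e :=
  MorphismProperty.of_isPullback H.flip ‹IsPreimmersion ι›

/-- The generic point of an integral fibre. -/
theorem exists_gen [IsLocallyNoetherian X] [IsLocallyNoetherian F] [IsIntegral F]
    (H : IsPullback e q f ι) (hK : Kill.KillsAll F) {δ : X → ℤ}
    (hδ : Cyc.IsDimFun X δ) (η : Y) (hη : ι (genericPoint (Spec (CommRingCat.of L))) = η) :
    ∃ ζ : X, ζ = e (genericPoint F) ∧ f ζ = η ∧ FibLen.fibLen f ζ = 1 ∧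
      Residue.trdegAt f ζ = Residue.trdegAt q (genericPoint F) ∧
      ∀ x : X, f x = η → ζ ⤳ x ∧ (x ≠ ζ → Descent.KilledInFibre f δ x) := by
  haveI : IsPreimmersion e := isPreimmersion H
  haveI : IsIntegral (Spec (CommRingCat.of L)) := inferInstance
  have hsub : ∀ a : Spec (CommRingCat.of L), a = genericPoint (Spec (CommRingCat.of L)) := fun a => Subsingleton.elim _ _
  have hfe : ∀ a : F, f (e a) = η := fun a => by
    rw [← Scheme.Hom.comp_apply, H.w, Scheme.Hom.comp_apply, hsub (q a), hη]
  have hrange : ∀ x : X, f x = η → ∃ a, e a = x := fun x hx => by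
    obtain ⟨w, hw, -⟩ := Scheme.Pullback.exists_preimage_pullback (f := f) (g := ι) x
      (genericPoint (Spec (CommRingCat.of L))) (by rw [hx, hη])
    refine ⟨H.isoPullback.inv w, ?_⟩
    rw [← hw, ← Scheme.Hom.comp_apply, H.isoPullback_inv_fst]
  have hF : Cyc.IsDimFun F (fun a => δ (e a)) := by
    intro a b h hne
    obtain ⟨h1, h2⟩ := hδ (e a) (e b) (h.map e.continuous) fun he => hne (e.isEmbedding.injective he)
    refine ⟨h1, fun Hab => h2 fun z haz hzb => ?_⟩
    have hz : f z = η := by
      have s1 := haz.map f.continuous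
      have s2 := hzb.map f.continuous
      rw [hfe] at s1 s2
      exact (s2.antisymm s1).eq
    obtain ⟨w, rfl⟩ := hrange z hz
    rcases Hab w (e.isEmbedding.isInducing.specializes_iff.1 haz)
        (e.isEmbedding.isInducing.specializes_iff.1 hzb) with rfl | rfl
    · exact Or.inl rfl
    · exact Or.inr rfl
  refine ⟨_, rfl, hfe _, ?_, ?_, fun x hx => ?_⟩
  · refine LimCyc.fibLen_eq_one f _ ?_
    have hz : IsField ((Spec (CommRingCat.of L)).presheaf.stalk (q (genericPoint F))) := by
      rw [hsub (q (genericPoint F))]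
      exact Field.toIsField (Spec (CommRingCat.of L)).functionField
    rw [← H52.FBase.BCReducedStalk.ker_stalkMap H (genericPoint F) hz]
    haveI : (RingHom.ker (e.stalkMap (genericPoint F)).hom).IsMaximal :=
      RingHom.ker_isMaximal_of_surjective (K := F.functionField) (e.stalkMap (genericPoint F)).hom
        (e.stalkMap_surjective _)
    exact IsLocalRing.eq_maximalIdeal inferInstance
  · have h := FieldDim.trdegAt_congr H.w (genericPoint F)
    rw [Residue.trdegAt_comp, Residue.trdegAt_comp,
      FieldDim.trdegAt_eq_zero_of_surjective e _ (FieldDim.residueFieldMap_surjective (f := e) _),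
      FieldDim.trdegAt_eq_zero_of_surjective ι _ (FieldDim.residueFieldMap_surjective (f := ι) _),
      add_zero, zero_add] at h
    exact h
  · obtain ⟨a, rfl⟩ := hrange x hx
    refine ⟨(genericPoint_specializes a).map e.continuous, fun hne => ?_⟩
    have ha : ¬ DimFun.IsMaxPt a := fun ha => hne (congrArg e (ha _ (genericPoint_specializes a)).symm)
    obtain ⟨κ, hκ, ξ, g, h1, h2⟩ := Kill.exists_transfer e hδ hF (hK _ hF a ha)
    refine ⟨κ, hκ, fun n => e (ξ n), g, fun n => ⟨by rw [hfe, hfe], h1 n⟩, fun z hz => ?_⟩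
    obtain ⟨b, rfl⟩ := hrange z (hz.trans hx)
    exact h2 b

end Groth.Agent.Lib.Cyc.AffFib.Fibre
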