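import Groth.Agent.Lib.Cyc.AffFib.Descent
import Groth.Agent.Lib.Cyc.FP.Prime
import Groth.Agent.Lib.Cyc.PP.OpenImm

/-!
# Schemes killing all non-generic points
-/

set_option autoImplicit false
set_option linter.style.haveILetI false
universe u

open CategoryTheory AlgebraicGeometry IsLocalRing

namespace Groth.Agent.Lib.Cyc.AffFib.Kill

open Groth.Agent.Lib Groth.Agent.Lib.Cyc

variable {X : Scheme.{u}}

/-- `x` is killed by finitely many principal divisors. -/
def KilledAt (δ : X → ℤ) (x : X) : Prop :=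
  ∃ (ι : Type u) (_ : Fintype ι) (ξ : ι → X) (g : ∀ n, X.residueField (ξ n)),
    (∀ n, δ (ξ n) = δ x + 1 ∧ g n ≠ 0) ∧
    ∀ z : X, ∑ n, Cyc.divFun δ (ξ n) (g n) z = Set.indicator {x} 1 z

/-- Every non-generic point is killed, for every dimension function. -/
def KillsAll (X : Scheme.{u}) : Prop :=
  ∀ δ : X → ℤ, Cyc.IsDimFun X δ → ∀ x : X, ¬ DimFun.IsMaxPt x → KilledAt δ x

theorem divFun_add_const (δ : X → ℤ) (c : ℤ) (ξ : X) (g : X.residueField ξ) :
    Cyc.divFun (fun x => δ x + c) ξ g = Cyc.divFun δ ξ g := by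
  funext z
  simp only [Cyc.divFun]
  by_cases h : ξ ⤳ z ∧ δ z + 1 = δ ξ
  · rw [dif_pos ⟨h.1, by omega⟩, dif_pos h]
  · rw [dif_neg fun h' => h ⟨h'.1, by omega⟩, dif_neg h]

theorem KilledAt.add_const {δ : X → ℤ} {x : X} (h : KilledAt δ x) (c : ℤ) :
    KilledAt (fun x => δ x + c) x := by
  obtain ⟨ι, hι, ξ, g, hp, hs⟩ := h
  refine ⟨ι, hι, ξ, g, fun n => ⟨by show δ (ξ n) + c = δ x + c + 1; have := (hp n).1; omega, (hp n).2⟩, fun z => ?_⟩
  rw [← hs z]
  exact Finset.sum_congr rfl fun n _ => congrFun (divFun_add_const δ c (ξ n) (g n)) z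

/-- Dimension functions of an irreducible scheme differ by a constant. -/
theorem exists_eq_add [IsLocallyNoetherian X] [IrreducibleSpace X] {δ δ' : X → ℤ}
    (h : Cyc.IsDimFun X δ) (h' : Cyc.IsDimFun X δ') : ∃ c, δ' = fun x => δ x + c := by
  refine ⟨δ' (genericPoint X) - δ (genericPoint X), funext fun x => ?_⟩
  have e := (DimFun.ringKrullDim_stalk h x).symm.trans (DimFun.ringKrullDim_stalk h' x)
  have e1 := DimFun.le_of_specializes h (genericPoint_specializes x)
  have e2 := DimFun.le_of_specializes h' (genericPoint_specializes x)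
  have e3 : (δ (genericPoint X) - δ x).toNat = (δ' (genericPoint X) - δ' x).toNat := by
    exact_mod_cast e
  omega

variable {F : Scheme.{u}} (i : F ⟶ X) [IsPreimmersion i]

/-- Killing transfers along preimmersions. -/
theorem exists_transfer [IsLocallyNoetherian X] [IsLocallyNoetherian F] {δ : X → ℤ}
    (hδ : Cyc.IsDimFun X δ) (hδF : Cyc.IsDimFun F (fun a => δ (i a))) {p : F}
    (h : KilledAt (fun a => δ (i a)) p) :
    ∃ (ι : Type u) (_ : Fintype ι) (ξ : ι → F) (g : ∀ n, X.residueField (i (ξ n))),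
      (∀ n, δ (i (ξ n)) = δ (i p) + 1 ∧ g n ≠ 0) ∧
      ∀ a : F, ∑ n, Cyc.divFun δ (i (ξ n)) (g n) (i a) = Set.indicator {i p} 1 (i a) := by
  obtain ⟨ι, hι, ξ, g, hp, hs⟩ := h
  choose g' hg' using fun n => (PP.OpenImm.residue_bijective i (ξ n)).2 (g n)
  refine ⟨ι, hι, ξ, g', fun n => ⟨(hp n).1, fun h0 => (hp n).2 ?_⟩, fun a => ?_⟩
  · rw [← hg' n, h0]
    exact map_zero _
  · refine (Finset.sum_congr rfl fun n _ => ?_).trans ((hs a).trans ?_)
    · rw [← hg' n]
      exact (PP.OpenImm.divFun_map i hδ hδF (ξ n) (g' n) a).symm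
    · by_cases ha : a = p
      · subst ha
        rw [Set.indicator_of_mem (Set.mem_singleton a), Set.indicator_of_mem (Set.mem_singleton (i a))]
        rfl
      · rw [Set.indicator_of_notMem (s := ({p} : Set F)) ha,
          Set.indicator_of_notMem (s := ({i p} : Set X)) fun e => ha (i.isEmbedding.injective e)]

/-- An isomorphism preserves `KillsAll`. -/
theorem KillsAll.of_iso [IsLocallyNoetherian X] [IsLocallyNoetherian F] (e : F ≅ X) (h : KillsAll F) :
    KillsAll X := by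
  intro δ hδ x hx
  have hF : Cyc.IsDimFun F (fun a => δ (e.hom a)) := PP.OpenImm.isDimFun e.hom hδ
  obtain ⟨p, rfl⟩ := e.hom.homeomorph.surjective x
  have hp : ¬ DimFun.IsMaxPt p := fun hp => hx fun y hy => by
    obtain ⟨q, rfl⟩ := e.hom.homeomorph.surjective y
    rw [hp q ((PP.OpenImm.specializes_iff e.hom).1 hy)]
  obtain ⟨ι, hι, ξ, g, h1, h2⟩ := exists_transfer e.hom hδ hF (h _ hF p hp)
  refine ⟨ι, hι, fun n => e.hom (ξ n), g, h1, fun z => ?_⟩
  obtain ⟨a, rfl⟩ := e.hom.homeomorph.surjective z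
  exact h2 a

omit [IsPreimmersion i] in
/-- The generator of a maximal ideal kills the point, on a principal affine integral scheme. -/
theorem killsAll_pid [IsAffine X] [IsIntegral X] [IsLocallyNoetherian X]
    [IsPrincipalIdealRing Γ(X, ⊤)] : KillsAll X := by
  intro δ hδ x hx
  have hU : IsAffineOpen (⊤ : X.Opens) := isAffineOpen_top X
  have htop : ∀ z : X, z ∈ (⊤ : X.Opens) := fun _ => trivial
  let P : X → Ideal Γ(X, ⊤) := fun z => (hU.primeIdealOf ⟨z, trivial⟩).asIdeal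
  have hle : ∀ y z : X, P y ≤ P z ↔ y ⤳ z := fun y z => FieldDim.primeIdealOf_le_iff hU trivial trivial
  have hinj : ∀ y z : X, P y = P z → y = z := fun y z h =>
    ((hle y z).1 h.le |>.antisymm ((hle z y).1 h.ge)).eq
  set ξ := genericPoint X with hξ
  have hbot : P ξ = ⊥ := by
    refine le_bot_iff.1 fun a ha => ?_
    obtain ⟨⟨q, hq⟩, hqe⟩ : ∃ q : PrimeSpectrum Γ(X, ⊤), q.asIdeal = ⊥ := ⟨⟨⊥, Ideal.isPrime_bot⟩, rfl⟩
    have hqU : hU.fromSpec ⟨q, hq⟩ ∈ (⊤ : X.Opens) := trivial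
    have e : hU.primeIdealOf ⟨hU.fromSpec ⟨q, hq⟩, hqU⟩ = ⟨q, hq⟩ :=
      hU.fromSpec.isEmbedding.injective (hU.fromSpec_primeIdealOf ⟨_, hqU⟩)
    have h1 := (hle ξ _).2 (genericPoint_specializes (hU.fromSpec ⟨q, hq⟩))
    have h2 := h1 ha
    rw [show P (hU.fromSpec ⟨q, hq⟩) = q from congrArg PrimeSpectrum.asIdeal e] at h2
    exact hqe ▸ h2
  have hmaxl : ∀ z, z ≠ ξ → (P z).IsMaximal := fun z hz =>
    IsPrime.to_maximal_ideal fun h0 => hz (hinj z ξ (h0.trans hbot.symm))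
  have hxξ : x ≠ ξ := fun e => hx (e ▸ DimFun.isMaxPt_genericPoint)
  have hd : ∀ z, z ≠ ξ → δ z + 1 = δ ξ := fun z hz => by
    refine ((hδ ξ z (genericPoint_specializes z) (Ne.symm hz)).2 fun w _ hwz => ?_).symm
    by_cases hw : w = ξ
    · exact Or.inl hw
    · exact Or.inr (hinj w z ((hmaxl w hw).eq_of_le (hmaxl z hz).ne_top ((hle w z).2 hwz)))
  obtain ⟨q, hq⟩ := (IsPrincipalIdealRing.principal (P x)).principal
  have hq0 : q ≠ 0 := fun h0 => hxξ (hinj x ξ (by
    rw [hbot, hq, h0]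
    exact Submodule.span_zero_singleton _))
  have hev : X.evaluation ⊤ ξ trivial q ≠ 0 := fun h0 => hq0 (by
    have := (FieldDim.mem_primeIdealOf_iff hU (x := ξ) trivial q).2 h0
    change q ∈ P ξ at this
    rwa [hbot, Ideal.mem_bot] at this)
  refine ⟨PUnit, inferInstance, fun _ => ξ, fun _ => X.evaluation ⊤ ξ trivial q,
    fun _ => ⟨(hd x hxξ).symm, hev⟩, fun z => ?_⟩
  rw [Fintype.sum_unique]
  by_cases hz : z = ξ
  · rw [Cyc.divFun, dif_neg fun h => by have h2 : δ z + 1 = δ ξ := h.2; rw [hz] at h2; omega,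
      Set.indicator_of_notMem (s := ({x} : Set X)) fun e => hxξ ((Set.mem_singleton_iff.1 e).symm.trans hz)]
  have hsp : ξ ⤳ z := genericPoint_specializes z
  rw [Cyc.divFun, dif_pos ⟨hsp, hd z hz⟩, ← Ord.specMap_germ ⊤ z ξ hsp (htop z) q,
    Ord.ordAt_specMap hδ z ξ hsp (hd z hz).ge _ (by rw [Ord.specMap_germ]; exact hev),
    FP.Prime.ord_mk]
  have hker : RingHom.ker (Cyc.specMap z ξ hsp) = ⊥ := by
    refine le_bot_iff.1 ?_
    show (DimFun.genPrime z ξ hsp).asIdeal ≤ (⟨⊥, Ideal.isPrime_bot⟩ : PrimeSpectrum (X.presheaf.stalk z)).asIdeal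
    change DimFun.genPrime z ξ hsp ≤ ⟨⊥, Ideal.isPrime_bot⟩
    rw [← DimFun.fromSpecStalk_specializes_iff, DimFun.fromSpecStalk_genPrime]
    exact genericPoint_specializes _
  rw [hker, bot_sup_eq]
  by_cases hzx : z = x
  · subst hzx
    rw [Set.indicator_of_mem (Set.mem_singleton z)]
    letI := X.presheaf.algebra_section_stalk (⟨z, trivial⟩ : (⊤ : X.Opens))
    haveI := hU.isLocalization_stalk ⟨z, trivial⟩
    have hm : (P z).map (algebraMap Γ(X, ⊤) (X.presheaf.stalk z)) = maximalIdeal _ :=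
      IsLocalization.AtPrime.map_eq_maximalIdeal (P z) (X.presheaf.stalk z)
    rw [hq] at hm
    rw [Ideal.submodule_span_eq, Ideal.map_span, Set.image_singleton] at hm
    have : IsSimpleModule (X.presheaf.stalk z)
        (X.presheaf.stalk z ⧸ maximalIdeal (X.presheaf.stalk z)) :=
      isSimpleModule_iff_isCoatom.mpr (maximalIdeal.isMaximal _).out
    show ((Module.length (X.presheaf.stalk z) (X.presheaf.stalk z ⧸
      Ideal.span {algebraMap Γ(X, ⊤) (X.presheaf.stalk z) q})).toNat : ℤ) = 1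
    rw [(Submodule.quotEquivOfEq _ _ hm).length_eq, Module.length_eq_one]
    rfl
  · rw [Set.indicator_of_notMem (s := ({x} : Set X)) hzx]
    have hqz : q ∉ P z := fun hm => hzx (hinj z x ((hmaxl x hxξ).eq_of_le (hmaxl z hz).ne_top
      (by rw [hq]; exact (Ideal.span_singleton_le_iff_mem _).2 hm)).symm)
    have hu : IsUnit (X.presheaf.germ ⊤ z (htop z) q) := by
      by_contra hu
      exact hqz ((FieldDim.mem_primeIdealOf_iff hU (x := z) trivial q).2
        ((IsLocalRing.residue_eq_zero_iff _).2 ((mem_maximalIdeal _).2 hu)))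
    rw [Ideal.span_singleton_eq_top.2 hu, Module.length_eq_zero]
    rfl

end Groth.Agent.Lib.Cyc.AffFib.Kill
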